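import Cfsg.Agent.H844.K5.Base
import Cfsg.Agent.H590.OddEven
import Cfsg.Agent.H703.Lat.Basic
import Cfsg.Agent.S0243

/-!
# `k(B₀) = 5`, `p = 2`: the row `PSL₂(2ⁿ)` (helper825)
-/

set_option autoImplicit false

open Cfsg

namespace Cfsg.Agent.H825.K5

open Cfsg.Agent.H844.K5 Cfsg.Agent.H590.OddPrincipal Cfsg.Agent.Blocks

universe u

variable {G : Type u} [Group G] [Finite G] {M : Ideal AlgInt}

/-- odd squares are 1 modulo 8 -/
theorem sq_mod_eight {n : ℕ} (h : Odd n) : ((n : ℤ) ^ 2) % 8 = 1 := by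
  obtain ⟨k, rfl⟩ := h
  have h1 : (k : ℤ) % 4 = 0 ∨ (k : ℤ) % 4 = 1 ∨ (k : ℤ) % 4 = 2 ∨ (k : ℤ) % 4 = 3 := by omega
  push_cast
  have e : (2 * (k : ℤ) + 1) ^ 2 = 4 * (k * (k + 1)) + 1 := by ring
  rw [e]
  have h2 : (2 : ℤ) ∣ k * (k + 1) := (Int.even_mul_succ_self k).two_dvd
  omega

/-- `8 ∣ |G|` and all degrees in the principal block odd: the number of characters in the principal
block is divisible by 8. -/
theorem dvd_card (hM : IsPModular 2 M) (h8 : 8 ∣ Nat.card G) (h : AllOdd M G) :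
    8 ∣ Nat.card (principalBlock M G) := by
  classical
  have h1 := Cfsg.Agent.H703.Lat.dvd_sum_sq hM (Cfsg.Agent.H703.Lat.good_principal (G := G) hM)
    (a := 3) (by simpa using h8)
  have h2 : Nat.card (principalBlock M G) = (Cfsg.Agent.H703.Lat.B0 M G).card := by
    have := Cfsg.Agent.Characters.Core.finite_irr (G := G)
    rw [Nat.card_coe_set_eq, Set.ncard_eq_toFinset_card _ (Set.toFinite (principalBlock M G))]
    rfl
  rw [h2]
  have h3 : (8 : ℤ) ∣ ∑ χ ∈ Cfsg.Agent.H703.Lat.B0 M G,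
      ((charDegree (χ : G → ℂ) : ℤ) ^ 2 - 1) := by
    apply Finset.dvd_sum
    intro χ hχ
    have h4 := sq_mod_eight (h χ (Cfsg.Agent.H703.Lat.mem_B0.1 hχ))
    omega
  rw [Finset.sum_sub_distrib, Finset.sum_const, nsmul_eq_mul, mul_one] at h3
  have h4 : (8 : ℤ) ∣ ∑ χ ∈ Cfsg.Agent.H703.Lat.B0 M G, (charDegree (χ : G → ℂ) : ℤ) ^ 2 := by
    simpa using h1
  have h5 := (dvd_sub_right h4).1 h3
  exact_mod_cast h5

/-- **the row `PSL₂(2ⁿ)`** -/
theorem row_l2even {S : Subgroup G} (h : Sit M G S) (F : Type) [Field F] [Fintype F] (n : ℕ)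
    (hF : Fintype.card F = 2 ^ n)
    (e : Nonempty (S ≃* Matrix.ProjectiveSpecialLinearGroup (Fin 2) F)) : False := by
  have hn := h.normal
  have h16 : 16 ∣ Nat.card S := by
    have h1 : Nat.card S * S.index = Nat.card G := S.card_mul_index
    have h2 : Nat.Coprime 16 S.index := by
      have h3 : Nat.Coprime 2 S.index := by
        rw [Nat.coprime_two_left]
        exact h.odd
      have h4 := h3.pow_left 4
      simpa using h4
    have h3 := h.dvd
    rw [← h1] at h3
    exact h2.dvd_of_dvd_mul_right h3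
  have hn2 : 2 ≤ n := by
    by_contra hlt
    obtain ⟨e⟩ := e
    have h1 := Cfsg.Agent.S0243.result hF 2 le_rfl
    rw [← Nat.card_congr e.toEquiv, Fin.prod_univ_two] at h1
    have h2 : n = 0 ∨ n = 1 := by omega
    rcases h2 with rfl | rfl
    · have h3 := Fintype.one_lt_card (α := F)
      rw [hF] at h3
      norm_num at h3
    · norm_num at h1
      rw [h1] at h16
      norm_num at h16
  have hodd : AllOdd M S := Cfsg.Agent.H590.OddEven.allOdd_of_isEvenType h.modular
    ⟨F, inferInstance, inferInstance, n, hn2, hF, e⟩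
  have h1 := AllOdd.of_normal h.modular S h.odd hodd
  have h2 := dvd_card h.modular (Dvd.dvd.trans (by norm_num) h.dvd) h1
  rw [h.five.card] at h2
  norm_num at h2

end Cfsg.Agent.H825.K5
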